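/-
Perfect subgroups of congruence kernels of matrix groups over a ring.
-/
import Mathlib

set_option autoImplicit false

namespace Cfsg.Agent.UFourTwo

/-- A finite group has a stationary term in its derived series. -/
theorem exists_stationary (G : Type*) [Group G] [Finite G] :
    ∃ k, ⁅derivedSeries G k, derivedSeries G k⁆ = derivedSeries G k := by
  obtain ⟨k, hk⟩ := WellFoundedLT.antitone_chain_condition (derivedSeries_antitone G)
  exact ⟨k, (hk (k + 1) (by omega)).symm⟩

/-- Homomorphisms from a perfect subgroup to an abelian group are trivial. -/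
theorem perfect_hom_trivial {G A : Type*} [Group G] [CommGroup A] {P : Subgroup G} (hP : ⁅P, P⁆ = P)
    (f : ↥P →* A) (p : ↥P) : f p = 1 := by
  have h : commutator ↥P = ⊤ := by
    apply Subgroup.map_injective P.subtype_injective
    rw [Subgroup.map_subtype_commutator, hP, ← MonoidHom.range_eq_map, Subgroup.range_subtype]
  exact Abelianization.commutator_subset_ker f (h ▸ Subgroup.mem_top p)

theorem one_of_perfect {R S n : Type*} [CommRing R] [CommRing S] [Fintype n] [DecidableEq n]
    (δ : R →+* S) (π : R) (hπ : δ π = 0) (hker : ∀ x, δ x = 0 → π ∣ x) (hcancel : ∀ x, π * x = 0 → x = 0)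
    (hsep : ∀ x, (∀ k : ℕ, π ^ k ∣ x) → x = 0)
    {G : Type*} [Group G] (ι : G →* Matrix n n R) {P : Subgroup G} (hP : ⁅P, P⁆ = P)
    (h1 : ∀ p ∈ P, δ.mapMatrix (ι p) = 1) : ∀ p ∈ P, ι p = 1 := by
  classical
  have hpow : ∀ k : ℕ, ∀ x, π ^ k * x = 0 → x = 0 := by
    intro k
    induction k with
    | zero => intro x hx; simpa using hx
    | succ k ih => intro x hx; exact hcancel x (ih _ (by rwa [pow_succ, mul_assoc] at hx))
  have main : ∀ k : ℕ, ∀ p ∈ P, ∀ i j, π ^ (k + 1) ∣ (ι p - 1) i j := by
    intro k
    induction k with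
    | zero =>
      intro p hp i j
      rw [pow_one]
      refine hker _ ?_
      show δ.mapMatrix (ι p - 1) i j = 0
      rw [map_sub, map_one, h1 p hp, sub_self]; rfl
    | succ k ih =>
      choose N hN using fun p : ↥P => ih p.1 p.2
      have hM : ∀ p : ↥P, ι p.1 = 1 + π ^ (k + 1) • Matrix.of (N p) := fun p => by
        rw [← sub_eq_iff_eq_add']; ext i j; rw [hN p i j]; rfl
      have hinj : ∀ X Y : Matrix n n R, π ^ (k + 1) • X = π ^ (k + 1) • Y → X = Y := fun X Y h => by
        ext i j
        refine sub_eq_zero.1 (hpow (k + 1) _ ?_)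
        rw [mul_sub, sub_eq_zero]
        exact congrFun (congrFun h i) j
      have hmul : ∀ p q : ↥P, Matrix.of (N (p * q)) =
          Matrix.of (N p) + Matrix.of (N q) + π ^ (k + 1) • (Matrix.of (N p) * Matrix.of (N q)) := by
        intro p q
        apply hinj
        have e := hM (p * q)
        rw [Subgroup.coe_mul, map_mul, hM p, hM q, add_mul, mul_add, mul_add, one_mul, one_mul, mul_one,
          Matrix.smul_mul, Matrix.mul_smul] at e
        rw [smul_add, smul_add]
        apply add_left_cancel (a := (1 : Matrix n n R))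
        rw [← e]; abel
      let f : ↥P →* Multiplicative (Matrix n n S) := MonoidHom.mk'
        (fun p => Multiplicative.ofAdd (δ.mapMatrix (Matrix.of (N p)))) fun p q => by
          rw [← ofAdd_add, hmul]
          congr 1
          ext i j
          simp [Matrix.map_apply, hπ]
      intro p hp i j
      have hz : δ (N ⟨p, hp⟩ i j) = 0 :=
        congrFun (congrFun (congrArg Multiplicative.toAdd (perfect_hom_trivial hP f ⟨p, hp⟩)) i) j
      rw [hN ⟨p, hp⟩ i j, pow_succ π (k + 1)]
      exact mul_dvd_mul_left _ (hker _ hz)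
  intro p hp
  ext i j
  refine sub_eq_zero.1 (hsep _ fun k => ?_)
  exact dvd_trans (pow_dvd_pow π k.le_succ) (main k p hp i j)

end Cfsg.Agent.UFourTwo
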