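/-
A hermitian Eisenstein lattice of rank four and its finite automorphism group.
-/
import Cfsg.Agent.Lib.Small.UFourTwo.Layer

set_option autoImplicit false

namespace Cfsg.Agent.UFourTwo

open Matrix QuadraticAlgebra

/-- Eisenstein integers. -/
abbrev EI := QuadraticAlgebra ℤ (-1) (-1)

/-- The field with four elements, with computable equality. -/
abbrev F4 := QuadraticAlgebra (ZMod 2) 1 1

/-- The square root of `-3`. -/
def thE : EI := ⟨1, 2⟩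

/-- The hermitian form divided by `thE`. -/
def formB : Matrix (Fin 4) (Fin 4) EI :=
  !![⟨-1, -2⟩, 1, 0, 0; -1, ⟨-1, -2⟩, 1, 0; 0, -1, ⟨-1, -2⟩, 1; 0, 0, -1, ⟨-1, -2⟩]

/-- The hermitian form. -/
def formA : Matrix (Fin 4) (Fin 4) EI :=
  !![3, ⟨1, 2⟩, 0, 0; ⟨-1, -2⟩, 3, ⟨1, 2⟩, 0; 0, ⟨-1, -2⟩, 3, ⟨1, 2⟩; 0, 0, ⟨-1, -2⟩, 3]

theorem formA_eq : formA = thE • formB := by decide +kernel

/-- The four reflections of order three. -/
def refl4 : Fin 4 → Matrix (Fin 4) (Fin 4) EI :=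
  ![!![⟨0, 1⟩, ⟨-1, -1⟩, 0, 0; 0, 1, 0, 0; 0, 0, 1, 0; 0, 0, 0, 1],
    !![1, 0, 0, 0; ⟨1, 1⟩, ⟨0, 1⟩, ⟨-1, -1⟩, 0; 0, 0, 1, 0; 0, 0, 0, 1],
    !![1, 0, 0, 0; 0, 1, 0, 0; 0, ⟨1, 1⟩, ⟨0, 1⟩, ⟨-1, -1⟩; 0, 0, 0, 1],
    !![1, 0, 0, 0; 0, 1, 0, 0; 0, 0, 1, 0; 0, 0, ⟨1, 1⟩, ⟨0, 1⟩]]

theorem refl4_cube (i : Fin 4) : refl4 i * (refl4 i * refl4 i) = 1 := by revert i; decide +kernel

theorem refl4_form (i : Fin 4) : (refl4 i)ᴴ * formA * refl4 i = formA := by revert i; decide +kernel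

/-- The automorphism group of the lattice. -/
def autL : Subgroup (Matrix (Fin 4) (Fin 4) EI)ˣ where
  carrier := {g | (g : Matrix (Fin 4) (Fin 4) EI)ᴴ * formA * (g : Matrix (Fin 4) (Fin 4) EI) = formA}
  one_mem' := by simp
  mul_mem' {g h} hg hh := by
    simp only [Set.mem_setOf_eq, Units.val_mul, conjTranspose_mul] at *
    calc _ = (h : Matrix (Fin 4) (Fin 4) EI)ᴴ * ((g : Matrix (Fin 4) (Fin 4) EI)ᴴ * formA * (g : Matrix (Fin 4) (Fin 4) EI)) *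
        (h : Matrix (Fin 4) (Fin 4) EI) := by simp only [mul_assoc]
      _ = _ := by rw [hg, hh]
  inv_mem' {g} hg := by
    simp only [Set.mem_setOf_eq] at *
    calc _ = ((g⁻¹ : (Matrix (Fin 4) (Fin 4) EI)ˣ) : Matrix (Fin 4) (Fin 4) EI)ᴴ *
        ((g : Matrix (Fin 4) (Fin 4) EI)ᴴ * formA * (g : Matrix (Fin 4) (Fin 4) EI)) *
          ((g⁻¹ : (Matrix (Fin 4) (Fin 4) EI)ˣ) : Matrix (Fin 4) (Fin 4) EI) := by rw [hg]
      _ = ((g : Matrix (Fin 4) (Fin 4) EI) * ((g⁻¹ : (Matrix (Fin 4) (Fin 4) EI)ˣ) : Matrix (Fin 4) (Fin 4) EI))ᴴ *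
          formA * ((g : Matrix (Fin 4) (Fin 4) EI) * ((g⁻¹ : (Matrix (Fin 4) (Fin 4) EI)ˣ) : Matrix (Fin 4) (Fin 4) EI)) := by
        rw [conjTranspose_mul]; simp only [mul_assoc]
      _ = formA := by simp

/-- The matrix of an automorphism. -/
def matL : ↥autL →* Matrix (Fin 4) (Fin 4) EI :=
  (Units.coeHom _).comp autL.subtype

theorem matL_injective : Function.Injective matL := fun _ _ h => Subtype.ext (Units.ext h)

theorem matL_form (g : ↥autL) : (matL g)ᴴ * formA * matL g = formA := g.2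

/-- The reflections as automorphisms. -/
def genL (i : Fin 4) : ↥autL :=
  ⟨⟨refl4 i, refl4 i * refl4 i, refl4_cube i, by rw [mul_assoc]; exact refl4_cube i⟩, refl4_form i⟩

theorem sq_le_bound {x c : ℤ} (k : ℤ) (hk : 0 ≤ k) (h : x * x ≤ c) (hc : c < (k + 1) * (k + 1)) :
    -k ≤ x ∧ x ≤ k := by
  constructor
  · by_contra hx; nlinarith
  · by_contra hx; nlinarith

theorem norm_pos (p q : ℤ) : 0 ≤ p * p - p * q + q * q := by
  nlinarith [mul_self_nonneg (2 * p - q), mul_self_nonneg q]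

theorem norm_bound {p q : ℤ} (h : p * p - p * q + q * q ≤ 18) :
    -4 ≤ p ∧ p ≤ 4 ∧ -4 ≤ q ∧ q ≤ 4 := by
  have e1 : 4 * (p * p - p * q + q * q) = (2 * p - q) * (2 * p - q) + 3 * (q * q) := by ring
  have e2 : 4 * (p * p - p * q + q * q) = (2 * q - p) * (2 * q - p) + 3 * (p * p) := by ring
  have s1 := mul_self_nonneg (2 * p - q)
  have s2 := mul_self_nonneg (2 * q - p)
  obtain ⟨hp1, hp2⟩ := sq_le_bound (x := p) (c := 24) 4 (by norm_num) (by linarith) (by norm_num)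
  obtain ⟨hq1, hq2⟩ := sq_le_bound (x := q) (c := 24) 4 (by norm_num) (by linarith) (by norm_num)
  exact ⟨hp1, hp2, hq1, hq2⟩

theorem col_bound (a b : Fin 4 → ℤ)
    (h : let s i := a i * a i - a i * b i + b i * b i
      let t i j := (a i * b j - a j * b i)
      s 0 + s 1 + s 2 + s 3 - (t 0 1 + t 1 2 + t 2 3) = 1) :
    ∀ i, -12 ≤ a i ∧ a i ≤ 12 ∧ -12 ≤ b i ∧ b i ≤ 12 := by
  simp only at h
  obtain ⟨A1, hA1⟩ : ∃ x, x = 3 * a 0 + (a 1 - 2 * b 1) := ⟨_, rfl⟩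
  obtain ⟨B1, hB1⟩ : ∃ x, x = 3 * b 0 + (2 * a 1 - b 1) := ⟨_, rfl⟩
  obtain ⟨A2, hA2⟩ : ∃ x, x = 2 * a 1 + (a 2 - 2 * b 2) := ⟨_, rfl⟩
  obtain ⟨B2, hB2⟩ : ∃ x, x = 2 * b 1 + (2 * a 2 - b 2) := ⟨_, rfl⟩
  obtain ⟨A3, hA3⟩ : ∃ x, x = 3 * a 2 + 2 * (a 3 - 2 * b 3) := ⟨_, rfl⟩
  obtain ⟨B3, hB3⟩ : ∃ x, x = 3 * b 2 + 2 * (2 * a 3 - b 3) := ⟨_, rfl⟩
  have e : 2 * (A1 * A1 - A1 * B1 + B1 * B1) + 3 * (A2 * A2 - A2 * B2 + B2 * B2) +
      (A3 * A3 - A3 * B3 + B3 * B3) + 6 * (a 3 * a 3 - a 3 * b 3 + b 3 * b 3) = 18 := by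
    rw [hA1, hB1, hA2, hB2, hA3, hB3]; linear_combination 18 * h
  have n1 := norm_pos A1 B1
  have n2 := norm_pos A2 B2
  have n3 := norm_pos A3 B3
  have n4 := norm_pos (a 3) (b 3)
  obtain ⟨k11, k12, k13, k14⟩ := norm_bound (p := A1) (q := B1) (by linarith)
  obtain ⟨k21, k22, k23, k24⟩ := norm_bound (p := A2) (q := B2) (by linarith)
  obtain ⟨k31, k32, k33, k34⟩ := norm_bound (p := A3) (q := B3) (by linarith)
  have l4 : a 3 * a 3 - a 3 * b 3 + b 3 * b 3 ≤ 3 := by linarith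
  have f1 : 4 * (a 3 * a 3 - a 3 * b 3 + b 3 * b 3) =
      (2 * a 3 - b 3) * (2 * a 3 - b 3) + 3 * (b 3 * b 3) := by ring
  have f2 : 4 * (a 3 * a 3 - a 3 * b 3 + b 3 * b 3) =
      (2 * b 3 - a 3) * (2 * b 3 - a 3) + 3 * (a 3 * a 3) := by ring
  obtain ⟨m1, m1'⟩ := sq_le_bound (x := a 3) (c := 4) 2 (by norm_num)
    (by linarith [mul_self_nonneg (2 * b 3 - a 3)]) (by norm_num)
  obtain ⟨m2, m2'⟩ := sq_le_bound (x := b 3) (c := 4) 2 (by norm_num)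
    (by linarith [mul_self_nonneg (2 * a 3 - b 3)]) (by norm_num)
  clear e h n1 n2 n3 n4 l4 f1 f2
  intro i
  fin_cases i <;> simp <;> omega

/-- The norm of a column in coordinates. -/
theorem col_norm (g : ↥autL) (j : Fin 4) :
    let a i := (matL g i j).re
    let b i := (matL g i j).im
    let s i := a i * a i - a i * b i + b i * b i
    let t i k := (a i * b k - a k * b i)
    s 0 + s 1 + s 2 + s 3 - (t 0 1 + t 1 2 + t 2 3) = 1 := by
  intro a b s t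
  have h := congrArg QuadraticAlgebra.re (congrFun (congrFun (matL_form g) j) j)
  simp only [mul_apply, conjTranspose_apply, Fin.sum_univ_four] at h
  fin_cases j <;> simp [formA, a, b, s, t] at h ⊢ <;> linarith

instance finite_autL : Finite ↥autL := by
  have hb := fun (g : ↥autL) (j : Fin 4) => col_bound (fun i => (matL g i j).re) (fun i => (matL g i j).im) (col_norm g j)
  let f : ↥autL → (Fin 4 → Fin 4 → ↥(Set.Icc (-12 : ℤ) 12) × ↥(Set.Icc (-12 : ℤ) 12)) := fun g i j =>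
    (⟨(matL g i j).re, (hb g j i).1, (hb g j i).2.1⟩, ⟨(matL g i j).im, (hb g j i).2.2.1, (hb g j i).2.2.2⟩)
  refine Finite.of_injective f fun g g' h => matL_injective ?_
  ext i j
  · exact congrArg (fun p => p.1.1) (congrFun (congrFun h i) j)
  · exact congrArg (fun p => p.2.1) (congrFun (congrFun h i) j)

end Cfsg.Agent.UFourTwo
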