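/-
The two reductions of the Eisenstein lattice: unitary modulo 2, symplectic modulo the prime above 3.
-/
import Cfsg.Agent.Lib.Small.UFourTwo.Lattice

set_option autoImplicit false

namespace Cfsg.Agent.UFourTwo

open Matrix QuadraticAlgebra

/-- Reduction modulo 2. -/
def redTwo : EI →+* F4 where
  toFun z := ⟨(z.re : ZMod 2), (z.im : ZMod 2)⟩
  map_one' := by ext <;> simp
  map_zero' := by ext <;> simp
  map_add' x y := by ext <;> simp
  map_mul' x y := by
    have h : (-1 : ZMod 2) = 1 := by decide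
    ext <;> simp [h]

theorem redTwo_star (z : EI) : redTwo (star z) = star (redTwo z) := by
  have h : (-1 : ZMod 2) = 1 := by decide
  ext <;> simp [redTwo, h]

theorem redTwo_ker (x : EI) (h : redTwo x = 0) : (2 : EI) ∣ x := by
  obtain ⟨a, b⟩ := x
  have ha := congrArg QuadraticAlgebra.re h
  have hb := congrArg QuadraticAlgebra.im h
  simp [redTwo] at ha hb
  rw [ZMod.intCast_zmod_eq_zero_iff_dvd] at ha hb
  obtain ⟨c, rfl⟩ := ha
  obtain ⟨d, rfl⟩ := hb
  exact ⟨⟨c, d⟩, by ext <;> simp⟩

/-- Reduction modulo the prime above 3. -/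
def redThree : EI →+* ZMod 3 where
  toFun z := (z.re : ZMod 3) + (z.im : ZMod 3)
  map_one' := by simp
  map_zero' := by simp
  map_add' x y := by simp; ring
  map_mul' x y := by
    have h : (3 : ZMod 3) = 0 := by decide
    simp
    linear_combination (-(x.im : ZMod 3) * (y.im : ZMod 3)) * h

theorem redThree_star (z : EI) : redThree (star z) = redThree z := by
  have h : (3 : ZMod 3) = 0 := by decide
  simp [redThree]
  linear_combination -(z.im : ZMod 3) * h

theorem redThree_ker (x : EI) (h : redThree x = 0) : thE ∣ x := by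
  obtain ⟨a, b⟩ := x
  have h' : ((a + b : ℤ) : ZMod 3) = 0 := by simpa [redThree] using h
  rw [ZMod.intCast_zmod_eq_zero_iff_dvd] at h'
  obtain ⟨m, hm⟩ := h'
  refine ⟨⟨2 * m - a, m - a⟩, ?_⟩
  ext <;> simp [thE] <;> omega

/-- The norm of an Eisenstein integer. -/
def nrmE : EI →* ℤ where
  toFun z := z.re * z.re - z.re * z.im + z.im * z.im
  map_one' := by simp
  map_mul' x y := by simp; ring

theorem nrmE_eq_zero {z : EI} (h : nrmE z = 0) : z = 0 := by
  have h' : z.re * z.re - z.re * z.im + z.im * z.im = 0 := h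
  have hb : z.im * z.im = 0 := by nlinarith [mul_self_nonneg (2 * z.re - z.im), mul_self_nonneg z.im]
  have hb' : z.im = 0 := mul_self_eq_zero.1 hb
  have ha : z.re * z.re = 0 := by rw [hb'] at h'; linarith
  exact QuadraticAlgebra.ext (mul_self_eq_zero.1 ha) hb'

theorem sep_of_norm {π : EI} (hπ : 2 ≤ (nrmE π).natAbs) (x : EI) (h : ∀ k : ℕ, π ^ k ∣ x) : x = 0 := by
  apply nrmE_eq_zero
  by_contra hne
  obtain ⟨y, hy⟩ := h (nrmE x).natAbs
  have hd : (nrmE π).natAbs ^ (nrmE x).natAbs ∣ (nrmE x).natAbs := by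
    rw [← Int.natAbs_pow, ← map_pow]
    exact Int.natAbs_dvd_natAbs.2 ⟨nrmE y, by rw [← map_mul, ← hy]⟩
  have h1 := Nat.le_of_dvd (Int.natAbs_pos.2 hne) hd
  have h2 := Nat.lt_pow_self (a := (nrmE π).natAbs) (n := (nrmE x).natAbs) hπ
  omega

theorem cancel_of_norm {π : EI} (hπ : nrmE π ≠ 0) (x : EI) (h : π * x = 0) : x = 0 := by
  have := congrArg nrmE h
  rw [map_mul, show nrmE (0 : EI) = 0 from rfl] at this
  exact nrmE_eq_zero ((mul_eq_zero.1 this).resolve_left hπ)

/-- An orthonormal basis modulo 2. -/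
def basisC : Matrix (Fin 4) (Fin 4) F4 :=
  !![0, 0, 0, ⟨0, 1⟩; 0, ⟨0, 1⟩, ⟨0, 1⟩, 0; 0, 0, ⟨0, 1⟩, ⟨0, 1⟩; ⟨0, 1⟩, 0, ⟨0, 1⟩, ⟨0, 1⟩]

/-- Its inverse. -/
def basisC' : Matrix (Fin 4) (Fin 4) F4 :=
  !![0, 0, ⟨1, 1⟩, ⟨1, 1⟩; ⟨1, 1⟩, ⟨1, 1⟩, ⟨1, 1⟩, 0; ⟨1, 1⟩, 0, ⟨1, 1⟩, 0; ⟨1, 1⟩, 0, 0, 0]

theorem basisC_mul : basisC * basisC' = 1 := by decide +kernel

theorem basisC'_mul : basisC' * basisC = 1 := by decide +kernel

theorem basisC_form : basisCᴴ * formA.map redTwo * basisC = 1 := by decide +kernel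

/-- The unitary reduction. -/
def unitRep : ↥autL →* Matrix (Fin 4) (Fin 4) F4 where
  toFun g := basisC' * (matL g).map redTwo * basisC
  map_one' := by
    rw [map_one, Matrix.map_one _ (map_zero _) (map_one _), mul_one, basisC'_mul]
  map_mul' g h := by
    rw [map_mul, Matrix.map_mul]
    calc _ = basisC' * (matL g).map redTwo * 1 * (matL h).map redTwo * basisC := by
          simp only [mul_assoc, one_mul]
      _ = _ := by rw [← basisC_mul]; simp only [mul_assoc]

theorem unitRep_unitary (g : ↥autL) : (unitRep g)ᴴ * unitRep g = 1 := by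
  have hf := congrArg (fun M : Matrix (Fin 4) (Fin 4) EI => M.map redTwo) (matL_form g)
  simp only [Matrix.map_mul] at hf
  rw [conjTranspose_map redTwo redTwo_star] at hf
  have hA : basisC'ᴴ * basisC' = formA.map redTwo := by decide +kernel
  calc (unitRep g)ᴴ * unitRep g
      = basisCᴴ * ((matL g).map redTwo)ᴴ * (basisC'ᴴ * basisC') * (matL g).map redTwo * basisC := by
        simp only [unitRep, MonoidHom.coe_mk, OneHom.coe_mk, conjTranspose_mul, mul_assoc]
    _ = basisCᴴ * (((matL g).map redTwo)ᴴ * formA.map redTwo * (matL g).map redTwo) * basisC := by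
        rw [hA]; simp only [mul_assoc]
    _ = 1 := by rw [hf, basisC_form]

theorem map_two_eq_one {g : ↥autL} (h : unitRep g = 1) : redTwo.mapMatrix (matL g) = 1 := by
  have h' := congrArg (fun M => basisC * M * basisC') h
  simp only [unitRep, MonoidHom.coe_mk, OneHom.coe_mk, mul_one, basisC_mul] at h'
  rw [← h']
  simp [← mul_assoc, basisC_mul]
  rw [mul_assoc, basisC_mul, mul_one]

/-- A symplectic basis modulo the prime above 3. -/
def basisD : Matrix (Fin 4) (Fin 4) (ZMod 3) := !![0, 0, 0, 1; 0, 1, 0, 0; 0, 0, 1, 0; 1, 1, 0, 0]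

/-- Its inverse. -/
def basisD' : Matrix (Fin 4) (Fin 4) (ZMod 3) := !![0, 2, 0, 1; 0, 1, 0, 0; 0, 0, 1, 0; 1, 0, 0, 0]

theorem basisD_mul : basisD * basisD' = 1 := by decide +kernel

theorem basisD'_mul : basisD' * basisD = 1 := by decide +kernel

/-- The standard alternating matrix. -/
def altJ : Matrix (Fin 4) (Fin 4) (ZMod 3) := !![0, 0, -1, 0; 0, 0, 0, -1; 1, 0, 0, 0; 0, 1, 0, 0]

theorem basisD_form : basisDᵀ * formB.map redThree * basisD = altJ := by decide +kernel

/-- The symplectic reduction. -/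
def sympRep : ↥autL →* Matrix (Fin 4) (Fin 4) (ZMod 3) where
  toFun g := basisD' * (matL g).map redThree * basisD
  map_one' := by
    rw [map_one, Matrix.map_one _ (map_zero _) (map_one _), mul_one, basisD'_mul]
  map_mul' g h := by
    rw [map_mul, Matrix.map_mul]
    calc _ = basisD' * (matL g).map redThree * 1 * (matL h).map redThree * basisD := by
          simp only [mul_assoc, one_mul]
      _ = _ := by rw [← basisD_mul]; simp only [mul_assoc]

theorem matL_formB (g : ↥autL) : (matL g)ᴴ * formB * matL g = formB := by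
  have h := matL_form g
  rw [formA_eq, Matrix.mul_smul, Matrix.smul_mul] at h
  ext i j : 1
  refine sub_eq_zero.1 (cancel_of_norm (π := thE) (by decide) _ ?_)
  rw [mul_sub, sub_eq_zero]
  exact congrFun (congrFun h i) j

theorem sympRep_form (g : ↥autL) : (sympRep g)ᵀ * altJ * sympRep g = altJ := by
  have hf := congrArg (fun M : Matrix (Fin 4) (Fin 4) EI => M.map redThree) (matL_formB g)
  simp only [Matrix.map_mul] at hf
  have hct : (matL g)ᴴ.map redThree = ((matL g).map redThree)ᵀ := by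
    ext i j; exact redThree_star _
  rw [hct] at hf
  have hB : basisD'ᵀ * altJ * basisD' = formB.map redThree := by decide +kernel
  calc (sympRep g)ᵀ * altJ * sympRep g
      = basisDᵀ * ((matL g).map redThree)ᵀ * (basisD'ᵀ * altJ * basisD') * (matL g).map redThree * basisD := by
        simp only [sympRep, MonoidHom.coe_mk, OneHom.coe_mk, Matrix.transpose_mul, mul_assoc]
    _ = basisDᵀ * (((matL g).map redThree)ᵀ * formB.map redThree * (matL g).map redThree) * basisD := by
        rw [hB]; simp only [mul_assoc]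
    _ = altJ := by rw [hf, basisD_form]

theorem map_three_eq_one {g : ↥autL} (h : sympRep g = 1) : redThree.mapMatrix (matL g) = 1 := by
  have h' := congrArg (fun M => basisD * M * basisD') h
  simp only [sympRep, MonoidHom.coe_mk, OneHom.coe_mk, mul_one, basisD_mul] at h'
  rw [← h']
  simp [← mul_assoc, basisD_mul]
  rw [mul_assoc, basisD_mul, mul_one]

/-- A transvection of the unitary group. -/
def transvU (v : Fin 4 → F4) : Matrix (Fin 4) (Fin 4) F4 := 1 + vecMulVec v (star v)

theorem transvU_conj {M : Matrix (Fin 4) (Fin 4) F4} (hM : Mᴴ * M = 1) (v : Fin 4 → F4) :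
    transvU (M *ᵥ v) = M * transvU v * Mᴴ := by
  rw [transvU, transvU, mul_add, add_mul, mul_one, mul_eq_one_comm.1 hM, Matrix.mul_vecMulVec,
    Matrix.vecMulVec_mul, star_mulVec]

theorem unitRep_genL (i : Fin 4) : unitRep (genL i) = basisC' * (refl4 i).map redTwo * basisC := rfl

end Cfsg.Agent.UFourTwo
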