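/-
The orbit of isotropic vectors under the reduced reflections.
-/
import Cfsg.Agent.Lib.Small.UFourTwo.Reduce

set_option autoImplicit false

namespace Cfsg.Agent.UFourTwo

open Matrix QuadraticAlgebra

/-- Vectors by code. -/
def vecOf (k : ℕ) : Fin 4 → F4 := fun i =>
  ![0, 1, ⟨0, 1⟩, ⟨1, 1⟩] ⟨k / 4 ^ (i : ℕ) % 4, Nat.mod_lt _ (by norm_num)⟩

/-- The isotropic vectors in breadth-first order, each with its parent and the generator reaching it. -/
def orbitData : List (ℕ × ℕ × ℕ) :=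
  [(160, 0, 0), (181, 0, 2), (240, 0, 4), (185, 1, 1), (159, 1, 2), (182, 1, 3), (218, 1, 4), (80, 2, 4), (17, 3, 0), (189, 3, 1),
   (186, 3, 3), (222, 3, 4), (151, 4, 1), (157, 4, 3), (229, 4, 4), (183, 5, 3), (219, 5, 4), (111, 6, 4), (237, 8, 0), (18, 8, 3),
   (34, 8, 4), (233, 9, 0), (130, 9, 2), (190, 9, 3), (214, 9, 4), (144, 10, 2), (187, 10, 3), (223, 10, 4), (103, 11, 4), (195, 12, 0),
   (155, 12, 1), (149, 12, 3), (158, 13, 3), (230, 13, 4), (122, 14, 4), (136, 15, 2), (217, 15, 4), (109, 16, 4), (238, 18, 3), (118, 18, 4),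
   (56, 19, 2), (19, 19, 3), (35, 19, 4), (51, 20, 4), (65, 21, 0), (234, 21, 3), (126, 21, 4), (131, 22, 3), (171, 23, 2), (191, 23, 3),
   (215, 23, 4), (107, 24, 4), (175, 25, 2), (224, 25, 4), (174, 26, 2), (221, 26, 4), (101, 27, 4), (193, 29, 3), (153, 30, 3), (170, 31, 2),
   (150, 31, 3), (231, 32, 4), (123, 33, 4), (140, 35, 1), (204, 35, 4), (110, 36, 4), (196, 38, 2), (239, 38, 3), (119, 38, 4), (60, 40, 1),
   (7, 40, 2), (28, 40, 4), (6, 41, 2), (33, 41, 4), (49, 42, 4), (66, 44, 3), (255, 45, 2), (235, 45, 3), (127, 45, 4), (169, 47, 2),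
   (129, 47, 3), (253, 48, 4), (213, 49, 4), (105, 50, 4), (167, 52, 1), (173, 52, 3), (245, 52, 4), (112, 53, 4), (166, 54, 1), (132, 54, 2),
   (247, 54, 4), (102, 55, 4), (254, 57, 2), (194, 57, 3), (154, 58, 3), (121, 61, 4), (68, 64, 4), (200, 66, 1), (251, 66, 2), (72, 66, 4),
   (250, 67, 2), (117, 67, 4), (52, 69, 1), (20, 69, 4), (11, 70, 1), (5, 70, 3), (9, 70, 4), (36, 71, 4), (10, 72, 1), (44, 72, 2),
   (50, 73, 4), (87, 75, 2), (67, 75, 3), (85, 76, 4), (125, 77, 4), (86, 81, 4), (106, 82, 4), (91, 84, 0), (165, 84, 3), (249, 84, 4),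
   (246, 85, 4), (90, 86, 4), (89, 90, 4), (76, 97, 4), (93, 98, 4), (208, 100, 2), (95, 100, 4), (96, 102, 0), (24, 102, 4), (40, 103, 4),
   (15, 104, 1), (13, 104, 4), (14, 106, 4), (94, 108, 0), (176, 118, 2)]

theorem orbit_len : orbitData.length = 135 := by decide +kernel

/-- The images of the generators. -/
def genU (i : Fin 4) : Matrix (Fin 4) (Fin 4) F4 := basisC' * (refl4 i).map redTwo * basisC

/-- One step of the orbit. -/
def stepU (i : ℕ) (v : Fin 4 → F4) : Fin 4 → F4 :=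
  if h : i < 4 then genU ⟨i, h⟩ *ᵥ v else (⟨0, 1⟩ : F4) • v

/-- The vector at a place of the orbit. -/
def orbVec (k : ℕ) : Fin 4 → F4 := vecOf (orbitData.getD k (0, 0, 0)).1

/-- The parent place. -/
def orbPar (k : ℕ) : ℕ := (orbitData.getD k (0, 0, 0)).2.1

/-- The step taken. -/
def orbGen (k : ℕ) : ℕ := (orbitData.getD k (0, 0, 0)).2.2

theorem orbit_step : ∀ k : Fin 135,
    k.1 = 0 ∨ (orbPar k < k.1 ∧ orbVec k = stepU (orbGen k) (orbVec (orbPar k))) := by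
  decide +kernel

theorem orbit_base :
    transvU (orbVec 0) = (genU 0 * genU 1) * (genU 0 * genU 1) * (genU 0 * genU 1) := by
  decide +kernel

theorem orbit_all : ∀ k : Fin 256, star (vecOf k) ⬝ᵥ vecOf k = 0 →
    k.1 = 0 ∨ k.1 ∈ orbitData.map Prod.fst := by
  decide +kernel

theorem exists_code : ∀ v : Fin 4 → F4, ∃ k : Fin 256, vecOf k = v := by
  have h : ∀ x : F4, ∃ a : Fin 4, (![0, 1, ⟨0, 1⟩, ⟨1, 1⟩] : Fin 4 → F4) a = x := by
    intro x
    obtain ⟨a, b⟩ := x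
    fin_cases a <;> fin_cases b <;> decide
  intro v
  choose a ha using fun i => h (v i)
  refine ⟨⟨(a 0).1 + 4 * (a 1).1 + 16 * (a 2).1 + 64 * (a 3).1, by omega⟩, funext fun i => ?_⟩
  refine Eq.trans ?_ (ha i)
  show (![0, 1, ⟨0, 1⟩, ⟨1, 1⟩] : Fin 4 → F4) _ = _
  congr 1
  apply Fin.ext
  fin_cases i <;> simp <;> omega

theorem vecOf_zero : vecOf 0 = 0 := by decide +kernel

theorem mem_orbit {k : ℕ} (h : k ∈ orbitData.map Prod.fst) : ∃ i, i < 135 ∧ orbVec i = vecOf k := by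
  obtain ⟨d, hd, hk⟩ := List.mem_map.1 h
  obtain ⟨i, hi, e⟩ := List.mem_iff_getElem.1 hd
  refine ⟨i, orbit_len ▸ hi, ?_⟩
  rw [orbVec, List.getD_eq_getElem _ _ hi, e, hk]

attribute [local irreducible] orbitData vecOf orbVec orbPar orbGen genU basisC basisC' refl4 genL unitRep

theorem stepU_mem {u : Fin 4 → F4} {g : ↥autL} (hg : unitRep g = transvU u) (i : ℕ) :
    ∃ g', unitRep g' = transvU (stepU i u) := by
  by_cases h4 : i < 4
  · have hgen : unitRep (genL ⟨i, h4⟩) = genU ⟨i, h4⟩ := by rw [unitRep_genL, genU]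
    have hu := unitRep_unitary (genL ⟨i, h4⟩)
    refine ⟨genL ⟨i, h4⟩ * g * (genL ⟨i, h4⟩)⁻¹, ?_⟩
    rw [stepU, dif_pos h4, ← hgen, transvU_conj hu, map_mul, map_mul, hg]
    congr 1
    calc unitRep (genL ⟨i, h4⟩)⁻¹
        = (unitRep (genL ⟨i, h4⟩))ᴴ * unitRep (genL ⟨i, h4⟩) * unitRep (genL ⟨i, h4⟩)⁻¹ := by rw [hu, one_mul]
      _ = _ := by rw [mul_assoc, ← map_mul, mul_inv_cancel, map_one, mul_one]
  · refine ⟨g, ?_⟩
    rw [hg, stepU, dif_neg h4, transvU, transvU, star_smul, Matrix.smul_vecMulVec, Matrix.vecMulVec_smul,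
      smul_smul, show (⟨0, 1⟩ : F4) * star (⟨0, 1⟩ : F4) = 1 by decide +kernel, one_smul]

theorem orbVec_mem : ∀ n, n < 135 → ∃ g, unitRep g = transvU (orbVec n) := by
  intro n
  induction n using Nat.strong_induction_on with
  | _ n ih =>
    intro hn
    have hstep : n = 0 ∨ (orbPar n < n ∧ orbVec n = stepU (orbGen n) (orbVec (orbPar n))) := orbit_step ⟨n, hn⟩
    rcases hstep with h | ⟨hlt, he⟩
    · refine ⟨(genL 0 * genL 1) * (genL 0 * genL 1) * (genL 0 * genL 1), ?_⟩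
      rw [h, orbit_base, map_mul, map_mul, map_mul, unitRep_genL, unitRep_genL, genU, genU]
    · obtain ⟨g, hg⟩ := ih _ hlt (lt_trans hlt hn)
      rw [he]
      exact stepU_mem hg _

theorem transv_mem_range {v : Fin 4 → F4} (hv : star v ⬝ᵥ v = 0) : ∃ g, unitRep g = transvU v := by
  obtain ⟨k, hk⟩ := exists_code v
  rcases orbit_all k (hk.symm ▸ hv) with h | h
  · refine ⟨1, ?_⟩
    have hv0 : v = 0 := by rw [← hk, h]; exact vecOf_zero
    rw [map_one, hv0, transvU, star_zero, Matrix.vecMulVec_zero, add_zero]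
  · obtain ⟨i, hi, e⟩ := mem_orbit h
    obtain ⟨g, hg⟩ := orbVec_mem i hi
    exact ⟨g, by rw [hg, e, hk]⟩

end Cfsg.Agent.UFourTwo
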