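/-
PSU_4(2) and PSp_4(3) as two reductions of one finite perfect group.
-/
import Cfsg.Agent.Lib.Small.UFourTwo.Orbit
import Cfsg.Agent.Lib.Classical.UnitaryStd
import Cfsg.Agent.Lib.Classical.Symplectic
import Cfsg.Agent.Lib.Classical.HermSU
import Cfsg.Agent.S0278
import Cfsg.Agent.S0283
import Cfsg.Agent.S0245

set_option autoImplicit false

namespace Cfsg.Agent.UFourTwo

open Matrix QuadraticAlgebra
open scoped IsMulCommutative

attribute [local irreducible] unitRep sympRep matL

theorem f4_star (x : F4) : star x = x * x := by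
  obtain ⟨a, b⟩ := x
  revert a b; decide +kernel

theorem f4_cube (x : F4) (h : x ≠ 0) : x * x * x = 1 := by
  obtain ⟨a, b⟩ := x
  revert a b; decide +kernel

theorem f4_skew (c : F4) (h : c + star c = 0) : c = 0 ∨ c = 1 := by
  obtain ⟨a, b⟩ := c
  revert a b; decide +kernel

theorem card_f4 : Nat.card F4 = 4 := by
  rw [Nat.card_congr (QuadraticAlgebra.equivProd (1 : ZMod 2) 1), Nat.card_prod, Nat.card_zmod]

theorem exists_embedding {F : Type*} [Field F] [Fintype F] (hF : Fintype.card F = 4) :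
    ∃ j : F4 →+* F, Function.Bijective j := by
  classical
  haveI : Fact (Nat.Prime 2) := ⟨Nat.prime_two⟩
  haveI : CharP F 2 := charP_of_card_eq_prime_pow (f := 2) (by rw [hF]; norm_num)
  obtain ⟨w, hw0, hw1⟩ : ∃ w : F, w ≠ 0 ∧ w ≠ 1 := by
    by_contra h
    push Not at h
    have hle := Finset.card_le_card (show (Finset.univ : Finset F) ⊆ {0, 1} from fun x _ => by
      rcases eq_or_ne x 0 with e | e <;> simp [e, h x])
    rw [Finset.card_univ, hF] at hle
    exact absurd (hle.trans (Finset.card_le_two)) (by norm_num)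
  have h3 : w ^ 3 = 1 := by
    have := FiniteField.pow_card_sub_one_eq_one w hw0
    rwa [hF] at this
  have h2 : (2 : F) = 0 := CharP.cast_eq_zero F 2
  have hw : w * w = 1 + w := by
    have h : (w - 1) * (w * w + w + 1) = 0 := by linear_combination h3
    have := (mul_eq_zero.1 h).resolve_left (sub_ne_zero.2 hw1)
    linear_combination this - (1 + w) * h2
  let c : ZMod 2 →+* F := ZMod.castHom (dvd_refl 2) F
  let j : F4 →+* F :=
    { toFun := fun z => c z.re + c z.im * w
      map_one' := by simp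
      map_zero' := by simp
      map_add' := fun x y => by simp; ring
      map_mul' := fun x y => by simp; linear_combination (-(c x.im * c y.im)) * hw }
  have hinj : Function.Injective j := by
    rw [injective_iff_map_eq_zero]
    intro x hx
    by_contra hne
    have := congrArg j (f4_cube x hne)
    rw [map_mul, map_mul, hx, map_one] at this
    simp at this
  haveI : Finite F4 := Nat.finite_of_card_ne_zero (by rw [card_f4]; norm_num)
  exact ⟨j, (Nat.bijective_iff_injective_and_card j).2 ⟨hinj, by rw [card_f4, Nat.card_eq_fintype_card, hF]⟩⟩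

theorem card_psu {F : Type*} [Field F] [Fintype F] (hF : Fintype.card F = 4) :
    Nat.card (Cfsg.PSU 4 F 2) = 25920 ∧ IsSimpleGroup (Cfsg.PSU 4 F 2) ∧
      commutator ↥(Cfsg.SU 4 F 2) = ⊤ := by
  have hF' : Fintype.card F = 2 ^ 2 := by rw [hF]; norm_num
  obtain ⟨σ, hσ, hne, hinv, hq, -⟩ := HermStd.exists_sigma hF'
  have hc := HermSU.card_center_SU hne hinv hσ (n := 4) (by norm_num) hq
  have hS := S0278.result hF' 4 (by norm_num)
  have h := Subgroup.card_eq_card_quotient_mul_card_subgroup (Subgroup.center ↥(Cfsg.SU 4 F 2))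
  rw [hc] at h
  simp [Finset.prod_range_succ, show ¬ Even 1 by decide, show Even 2 from ⟨1, rfl⟩,
    show ¬ Even 3 by decide] at hS
  norm_num at h hS
  refine ⟨?_, S0283.result hF' 4 (by norm_num) (fun h => absurd h.1 (by norm_num)), ?_⟩
  · unfold Cfsg.PSU; omega
  · obtain ⟨s, -, hsu, -⟩ := UnitaryStd.exists_setup (n := 4) hF' (by norm_num)
    rw [eq_top_iff, ← UnitaryStd.closure_eq_top hsu (by norm_num) (fun h => absurd h (by norm_num)),
      Subgroup.closure_le]
    rintro A ⟨v, c, hv, hA⟩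
    rw [commutator_eq_closure]
    exact Subgroup.subset_closure (UnitaryStd.mem_commutatorSet hsu (by norm_num) A hv hA)

theorem card_psp {K : Type*} [Field K] [Fintype K] (hK : Fintype.card K = 3) :
    Nat.card (Cfsg.PSp 2 K) = 25920 := by
  have h := Subgroup.card_eq_card_quotient_mul_card_subgroup
    (Subgroup.center (Matrix.symplecticGroup (Fin 2) K))
  rw [S0245.result hK 2, ClassicalSp.card_center_sp (by norm_num), Nat.card_eq_fintype_card (α := K), hK] at h
  norm_num [Finset.prod_range_succ] at h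
  unfold Cfsg.PSp; omega

theorem hermForm_map {F : Type*} [Field F] (j : F4 →+* F) (u v : Fin 4 → F4) :
    Cfsg.hermForm 4 F 2 (j ∘ u) (j ∘ v) = j (u ⬝ᵥ star v) := by
  simp [Cfsg.hermForm, dotProduct, map_sum, map_mul, f4_star, pow_two]

theorem preserve_map {F : Type*} [Field F] {j : F4 →+* F} (hj : Function.Surjective j)
    {M : Matrix (Fin 4) (Fin 4) F4} (hM : Mᴴ * M = 1) (u v : Fin 4 → F) :
    Cfsg.hermForm 4 F 2 (j.mapMatrix M *ᵥ u) (j.mapMatrix M *ᵥ v) = Cfsg.hermForm 4 F 2 u v := by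
  obtain ⟨u', rfl⟩ := hj.comp_left u
  obtain ⟨v', rfl⟩ := hj.comp_left v
  have e : ∀ w : Fin 4 → F4, j.mapMatrix M *ᵥ (j ∘ w) = j ∘ (M *ᵥ w) := fun w =>
    funext fun i => (RingHom.map_mulVec j M w i).symm
  rw [e, e, hermForm_map, hermForm_map]
  congr 1
  rw [dotProduct_comm, star_mulVec, ← dotProduct_mulVec, Matrix.mulVec_mulVec, hM, Matrix.one_mulVec,
    dotProduct_comm]

/-- The determinant of the unitary reduction on a perfect subgroup. -/
theorem det_one {F : Type*} [Field F] {P : Subgroup ↥autL} (hP : ⁅P, P⁆ = P) (j : F4 →+* F) (p : ↥P) :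
    (j.mapMatrix (unitRep p.1)).det = 1 := by
  let f : ↥P →* Fˣ := MonoidHom.toHomUnits
    ((Matrix.detMonoidHom : Matrix (Fin 4) (Fin 4) F →* F).comp
      (((j.mapMatrix : Matrix (Fin 4) (Fin 4) F4 →+* Matrix (Fin 4) (Fin 4) F).toMonoidHom.comp unitRep).comp P.subtype))
  exact congrArg Units.val (perfect_hom_trivial hP f p)

theorem transv_range {F : Type*} [Field F] {j : F4 →+* F} (hj : Function.Bijective j) (A : Cfsg.SU 4 F 2)
    {v' : Fin 4 → F4} {c' : F4} (hiso : star v' ⬝ᵥ v' = 0)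
    (hA : A.1.1 = Cfsg.unitaryTransvection 4 2 (j ∘ v') (j c')) :
    ∃ g, j.mapMatrix (unitRep g) = A.1.1 := by
  rcases eq_or_ne v' 0 with h0 | h0
  · refine ⟨1, ?_⟩
    rw [map_one, map_one, hA, h0]
    ext i k; simp [Cfsg.unitaryTransvection, Matrix.vecMulVec]
  set B : Matrix (Fin 4) (Fin 4) F4 := 1 + c' • vecMulVec v' (star v') with hB
  have hBA : j.mapMatrix B = A.1.1 := by
    rw [hA, hB]
    ext i k
    by_cases hik : i = k <;>
      simp [hik, Cfsg.unitaryTransvection, Matrix.vecMulVec, f4_star, pow_two]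
  have hBu : Bᴴ * B = 1 := by
    have hcol : ∀ i, B *ᵥ Pi.single i 1 = fun k => B k i := fun i => funext fun k => by
      simp [Matrix.mulVec_single]
    ext i k : 1
    apply hj.1
    have h' := A.2 (j ∘ Pi.single k 1) (j ∘ Pi.single i 1)
    change Cfsg.hermForm 4 F 2 (A.1.1 *ᵥ _) (A.1.1 *ᵥ _) = _ at h'
    rw [← hBA] at h'
    have e : ∀ w : Fin 4 → F4, j.mapMatrix B *ᵥ (j ∘ w) = j ∘ (B *ᵥ w) := fun w =>
      funext fun l => (RingHom.map_mulVec j B w l).symm
    rw [e, e, hermForm_map, hermForm_map, hcol, hcol] at h'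
    rw [show (Bᴴ * B) i k = (fun l => B l k) ⬝ᵥ star (fun l => B l i) by
      simp [Matrix.mul_apply, dotProduct, mul_comm], h']
    congr 1
    by_cases hik : i = k <;> simp [dotProduct, Pi.single_apply, Matrix.one_apply, hik, eq_comm]
  obtain ⟨i, hi⟩ := Function.ne_iff.1 h0
  have hc : c' + star c' = 0 := by
    simp only [hB, conjTranspose_add, conjTranspose_one, conjTranspose_smul, conjTranspose_vecMulVec, star_star,
      add_mul, mul_add, Matrix.smul_mul, Matrix.mul_smul, vecMulVec_mul_vecMulVec, hiso,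
      zero_smul, Matrix.vecMulVec_zero, smul_zero, one_mul, mul_one, add_zero] at hBu
    have h1 : (c' + star c') • vecMulVec v' (star v') = 0 := by
      rw [add_smul]
      apply add_left_cancel (a := (1 : Matrix (Fin 4) (Fin 4) F4))
      rw [add_zero]
      conv_rhs => rw [← hBu]
      abel
    have h2 : (c' + star c') * (v' i * star (v' i)) = 0 := congrFun (congrFun h1 i) i
    have h3 : v' i * star (v' i) = 1 := by rw [f4_star, ← mul_assoc]; exact f4_cube _ hi
    rwa [h3, mul_one] at h2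
  rcases f4_skew _ hc with rfl | rfl
  · exact ⟨1, by rw [← hBA, hB, map_one, zero_smul, add_zero]⟩
  · obtain ⟨g, hg⟩ := transv_mem_range hiso
    exact ⟨g, by rw [← hBA, hB, hg, transvU, one_smul]⟩

theorem exists_unitary_map {F : Type*} [Field F] [Fintype F] (hF : Fintype.card F = 4)
    {P : Subgroup ↥autL} {k : ℕ} (hk : P = derivedSeries ↥autL k) (hP : ⁅P, P⁆ = P) :
    ∃ f : ↥P →* Cfsg.SU 4 F 2, Function.Surjective f ∧ ∀ p, f p = 1 → unitRep p.1 = 1 := by
  obtain ⟨j, hj⟩ := exists_embedding hF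
  obtain ⟨-, -, hperf⟩ := card_psu hF
  let toSL : ↥P →* Matrix.SpecialLinearGroup (Fin 4) F := MonoidHom.mk'
    (fun p => ⟨j.mapMatrix (unitRep p.1), det_one hP j p⟩)
    (fun p q => Subtype.ext (show j.mapMatrix (unitRep (p * q).1) = j.mapMatrix (unitRep p.1) * j.mapMatrix (unitRep q.1) by
      rw [Subgroup.coe_mul, map_mul, map_mul]))
  let f : ↥P →* Cfsg.SU 4 F 2 := toSL.codRestrict _ fun p => preserve_map hj.2 (unitRep_unitary p.1)
  have hf : ∀ p, (f p).1.1 = j.mapMatrix (unitRep p.1) := fun p => rfl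
  refine ⟨f, ?_, fun p hp => ?_⟩
  · let h : ↥autL →* Matrix.GeneralLinearGroup (Fin 4) F := MonoidHom.toHomUnits
      ((j.mapMatrix : Matrix (Fin 4) (Fin 4) F4 →+* Matrix (Fin 4) (Fin 4) F).toMonoidHom.comp unitRep)
    let ι : ↥(Cfsg.SU 4 F 2) →* Matrix.GeneralLinearGroup (Fin 4) F :=
      Matrix.SpecialLinearGroup.toGL.comp (Cfsg.SU 4 F 2).subtype
    have hF' : Fintype.card F = 2 ^ 2 := by rw [hF]; norm_num
    obtain ⟨s, -, hsu, -⟩ := UnitaryStd.exists_setup (n := 4) hF' (by norm_num)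
    have hle : ι.range ≤ h.range := by
      rw [MonoidHom.range_eq_map, ← UnitaryStd.closure_eq_top hsu (by norm_num) (fun e => absurd e (by norm_num)),
        MonoidHom.map_closure, Subgroup.closure_le]
      rintro _ ⟨A, ⟨v, c, hv, hA⟩, rfl⟩
      obtain ⟨v', rfl⟩ := hj.2.comp_left v
      obtain ⟨c', rfl⟩ := hj.2 c
      have hiso : star v' ⬝ᵥ v' = 0 := hj.1 (by rw [map_zero, dotProduct_comm, ← hermForm_map, hv])
      obtain ⟨g, hg⟩ := transv_range hj A hiso hA
      exact ⟨g, Units.ext hg⟩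
    have hder : ∀ n, ι.range ≤ Subgroup.map h (derivedSeries ↥autL n) := by
      intro n
      induction n with
      | zero => rwa [derivedSeries_zero, ← MonoidHom.range_eq_map]
      | succ n ih =>
        rw [derivedSeries_succ, Subgroup.map_commutator, MonoidHom.range_eq_map, ← hperf, commutator_def,
          Subgroup.map_commutator, ← MonoidHom.range_eq_map]
        exact Subgroup.commutator_mono ih ih
    intro A
    obtain ⟨p, hp, hpe⟩ := hder k ⟨A, rfl⟩
    exact ⟨⟨p, hk ▸ hp⟩, Subtype.ext (Subtype.ext (congrArg Units.val hpe))⟩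
  · have := congrArg (fun s : ↥(Cfsg.SU 4 F 2) => s.1.1) hp
    simp only [hf] at this
    exact (Matrix.map_injective hj.1) (this.trans (map_one j.mapMatrix).symm)

theorem exists_symp_map {K : Type*} [Field K] [Fintype K] (hK : Fintype.card K = 3) :
    ∃ f : ↥autL →* Matrix.symplecticGroup (Fin 2) K, ∀ g, f g = 1 → sympRep g = 1 := by
  haveI : Fact (Nat.Prime 3) := ⟨Nat.prime_three⟩
  haveI : CharP K 3 := charP_of_card_eq_prime_pow (f := 1) (by rw [hK]; norm_num)
  let j : ZMod 3 →+* K := ZMod.castHom (dvd_refl 3) K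
  let e : Fin 4 ≃ Fin 2 ⊕ Fin 2 := (finSumFinEquiv (m := 2) (n := 2)).symm
  let m : ↥autL →* Matrix (Fin 2 ⊕ Fin 2) (Fin 2 ⊕ Fin 2) K :=
    (Matrix.reindexAlgEquiv K K e).toMonoidHom.comp
      ((j.mapMatrix : Matrix (Fin 4) (Fin 4) (ZMod 3) →+* Matrix (Fin 4) (Fin 4) K).toMonoidHom.comp sympRep)
  have hm : ∀ g, m g = ((sympRep g).map j).submatrix e.symm e.symm := fun g => rfl
  have hJ3 : altJ.submatrix e.symm e.symm = Matrix.J (Fin 2) (ZMod 3) := by
    simp only [e, Equiv.symm_symm]; decide +kernel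
  have hJ : (altJ.map j).submatrix e.symm e.symm = Matrix.J (Fin 2) K := by
    show (altJ.submatrix e.symm e.symm).map j = _
    rw [hJ3]
    ext (i | i) (k | k) <;> by_cases hik : i = k <;> simp [Matrix.J, hik]
  have hmem : ∀ g, m g ∈ Matrix.symplecticGroup (Fin 2) K := by
    intro g
    rw [← SymplecticGroup.transpose_mem_iff, SymplecticGroup.mem_iff, Matrix.transpose_transpose, hm, ← hJ,
      Matrix.transpose_submatrix, Matrix.submatrix_mul_equiv, Matrix.submatrix_mul_equiv, ← Matrix.transpose_map,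
      ← Matrix.map_mul, ← Matrix.map_mul, sympRep_form]
  refine ⟨m.codRestrict _ hmem, fun g hg => ?_⟩
  have h1 : m g = 1 := congrArg Subtype.val hg
  have h2 := (Matrix.reindexAlgEquiv K K e).injective ((show Matrix.reindexAlgEquiv K K e ((sympRep g).map j) = 1 from h1).trans (map_one (Matrix.reindexAlgEquiv K K e)).symm)
  exact Matrix.map_injective j.injective (h2.trans (map_one j.mapMatrix).symm)

theorem matL_triv_of_two {D : Subgroup ↥autL} (hD : ⁅D, D⁆ = D)
    (h : ∀ g ∈ D, unitRep g = 1) : ∀ g ∈ D, g = 1 := fun g hg => matL_injective (by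
  rw [map_one]
  exact one_of_perfect redTwo 2 (by decide +kernel) redTwo_ker (cancel_of_norm (by decide +kernel))
    (sep_of_norm (by decide +kernel)) matL hD (fun p hp => map_two_eq_one (h p hp)) g hg)

theorem matL_triv_of_three {D : Subgroup ↥autL} (hD : ⁅D, D⁆ = D)
    (h : ∀ g ∈ D, sympRep g = 1) : ∀ g ∈ D, g = 1 := fun g hg => matL_injective (by
  rw [map_one]
  exact one_of_perfect redThree thE (by decide +kernel) redThree_ker (cancel_of_norm (by decide +kernel))
    (sep_of_norm (by decide +kernel)) matL hD (fun p hp => map_three_eq_one (h p hp)) g hg)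

theorem psu_equiv_psp {F K : Type*} [Field F] [Fintype F] [Field K] [Fintype K]
    (hF : Fintype.card F = 4) (hK : Fintype.card K = 3) : Nonempty (Cfsg.PSU 4 F 2 ≃* Cfsg.PSp 2 K) := by
  obtain ⟨k, hk⟩ := exists_stationary ↥autL
  set P := derivedSeries ↥autL k with hPdef
  obtain ⟨cU, hsimp, -⟩ := card_psu hF
  have cS := card_psp hK
  obtain ⟨fU, hUsurj, hUker⟩ := exists_unitary_map hF hPdef hk
  obtain ⟨fS, hSker⟩ := exists_symp_map hK
  let qU : ↥P →* Cfsg.PSU 4 F 2 := (QuotientGroup.mk' _).comp fU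
  have qUsurj : Function.Surjective qU := (QuotientGroup.mk'_surjective _).comp hUsurj
  let qS : ↥P →* Cfsg.PSp 2 K := (QuotientGroup.mk' _).comp (fS.comp P.subtype)
  have hPperf : commutator ↥P = ⊤ := by
    apply Subgroup.map_injective P.subtype_injective
    rw [Subgroup.map_subtype_commutator, hk, ← MonoidHom.range_eq_map, Subgroup.range_subtype]
  have hS : ∃ p, qS p ≠ 1 := by
    by_contra hall
    push Not at hall
    let fc : ↥P →* ↥(Subgroup.center (Matrix.symplecticGroup (Fin 2) K)) :=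
      (fS.comp P.subtype).codRestrict _ fun p => (QuotientGroup.eq_one_iff _).1 (hall p)
    have htriv : ∀ g ∈ P, g = 1 := matL_triv_of_three hk fun g hg =>
      hSker g (congrArg Subtype.val (perfect_hom_trivial (A := ↥(Subgroup.center (Matrix.symplecticGroup (Fin 2) K))) hk fc ⟨g, hg⟩))
    have hle : Nat.card (Cfsg.PSU 4 F 2) ≤ 1 := by
      refine (Nat.card_le_card_of_surjective _ qUsurj).trans_eq ?_
      haveI : Subsingleton ↥P := ⟨fun a b => Subtype.ext (by rw [htriv a.1 a.2, htriv b.1 b.2])⟩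
      exact Nat.card_of_subsingleton (1 : ↥P)
    omega
  have hcent : Subgroup.center ↥(Cfsg.SU 4 F 2) = ⊥ := by
    have hF' : Fintype.card F = 2 ^ 2 := by rw [hF]; norm_num
    obtain ⟨σ, hσ, hne, hinv, hq, -⟩ := HermStd.exists_sigma hF'
    rw [← Subgroup.card_eq_one, HermSU.card_center_SU hne hinv hσ (n := 4) (by norm_num) hq]
    norm_num
  haveI : Group.IsSolvable ↥qU.ker := by
    obtain ⟨i, hi⟩ := exists_stationary ↥qU.ker
    refine ⟨⟨i, ?_⟩⟩
    set D : Subgroup ↥autL := (derivedSeries ↥qU.ker i).map (P.subtype.comp qU.ker.subtype) with hDdef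
    have hD : ⁅D, D⁆ = D := by rw [hDdef, ← Subgroup.map_commutator, hi]
    have htriv : ∀ g ∈ D, g = 1 := by
      refine matL_triv_of_two hD ?_
      rintro _ ⟨z, -, rfl⟩
      refine hUker z.1 ?_
      have hz : fU z.1 ∈ Subgroup.center ↥(Cfsg.SU 4 F 2) := (QuotientGroup.eq_one_iff _).1 z.2
      exact Subgroup.mem_bot.1 (hcent.le hz)
    rw [eq_bot_iff]
    intro z hz
    exact Subgroup.mem_bot.2 (Subtype.ext (Subtype.ext (htriv _ ⟨z, hz, rfl⟩)))
  have hNZ : qS.ker ≤ qU.ker := by
    rcases (Subgroup.Normal.map (H := qS.ker) inferInstance qU qUsurj).eq_bot_or_eq_top with h | h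
    · exact fun x hx => by
        have : qU x ∈ qS.ker.map qU := ⟨x, hx, rfl⟩
        rwa [h, Subgroup.mem_bot] at this
    · exfalso
      obtain ⟨p, hp⟩ := hS
      let r : ↥qU.ker →* ↥P ⧸ qS.ker := (QuotientGroup.mk' _).comp qU.ker.subtype
      have hr : Function.Surjective r := by
        intro x
        obtain ⟨a, rfl⟩ := QuotientGroup.mk'_surjective _ x
        obtain ⟨n, hn, hna⟩ : qU a ∈ qS.ker.map qU := h ▸ Subgroup.mem_top _
        refine ⟨⟨n⁻¹ * a, by rw [MonoidHom.mem_ker, map_mul, map_inv, hna, inv_mul_cancel]⟩, ?_⟩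
        show QuotientGroup.mk' qS.ker (n⁻¹ * a) = QuotientGroup.mk' qS.ker a
        rw [map_mul, map_inv, QuotientGroup.mk'_apply, (QuotientGroup.eq_one_iff n).2 hn]
        simp
      haveI := solvable_of_surjective hr
      have hd : ∀ n, derivedSeries (↥P ⧸ qS.ker) n = ⊤ := by
        intro n
        induction n with
        | zero => rfl
        | succ n ih =>
          rw [derivedSeries_succ, ih, ← Subgroup.map_top_of_surjective _ (QuotientGroup.mk'_surjective qS.ker),
            ← Subgroup.map_commutator, ← commutator_def, hPperf]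
      obtain ⟨n, hn⟩ := Group.IsSolvable.solvable (G := ↥P ⧸ qS.ker)
      have h1 : QuotientGroup.mk' qS.ker p ∈ (⊥ : Subgroup (↥P ⧸ qS.ker)) := by
        rw [← hn, hd]; exact Subgroup.mem_top _
      exact hp ((QuotientGroup.eq_one_iff p).1 (Subgroup.mem_bot.1 h1))
  have eU := QuotientGroup.quotientKerEquivOfSurjective qU qUsurj
  have eS := QuotientGroup.quotientKerEquivRange qS
  have h1 : Nat.card (↥P ⧸ qU.ker) = 25920 := by rw [Nat.card_congr eU.toEquiv, cU]
  have h2 : Nat.card (↥P ⧸ qS.ker) ≤ 25920 := by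
    rw [Nat.card_congr eS.toEquiv, ← cS]; exact Subgroup.card_le_card_group _
  have e1 := Subgroup.card_eq_card_quotient_mul_card_subgroup qU.ker
  have e2 := Subgroup.card_eq_card_quotient_mul_card_subgroup qS.ker
  have hle := Subgroup.card_le_of_le hNZ
  have hpos : 0 < Nat.card ↥qU.ker := Nat.card_pos
  have hkerc : Nat.card ↥qS.ker = Nat.card ↥qU.ker := by
    rw [e2, h1] at e1
    nlinarith
  have hkeq : qS.ker = qU.ker := Subgroup.eq_of_le_of_card_ge hNZ hkerc.ge
  have hrange : qS.range = ⊤ := by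
    apply Subgroup.eq_top_of_card_eq
    rw [← Nat.card_congr eS.toEquiv, cS, hkeq, h1]
  exact ⟨(eU.symm.trans (QuotientGroup.quotientMulEquivOfEq hkeq.symm)).trans
    (QuotientGroup.quotientKerEquivOfSurjective qS (MonoidHom.range_eq_top.1 hrange))⟩

end Cfsg.Agent.UFourTwo
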